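import Groth.Agent.EtDl.K337.SncAlg
import Groth.Agent.EtDl.K556.GoodDef
import Groth.Agent.EtpbcA.ConsDescent
import Groth.Agent.S0127
import Groth.Agent.Etrest.ConstBasic

/-!
# Constructibility of `R^q j_*` for the complement of a strict normal crossings divisor

The statement from base change along regular homomorphisms (`RegBC`) and the constructibility of the direct images
for open immersions into affine space over `ℚ`.
-/

set_option autoImplicit false
universe u

open CategoryTheory CategoryTheory.Limits AlgebraicGeometry Opposite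

namespace K337.Leaf

open K556.CertDef K556.GoodDef K337.SncAlg Groth.Agent Groth.Agent.Sga4h.ConsWO

/-- Base change along regular homomorphisms of Noetherian rings. -/
def RegBC : Prop :=
  ∀ ⦃R L : Type u⦄ [CommRing R] [CommRing L] [IsNoetherianRing R] [IsNoetherianRing L] (φ : R →+* L),
    @CAlg.IsRegularHom R _ L _ φ.toAlgebra → ∀ ⦃X X' : Scheme.{u}⦄
    (f : X ⟶ Spec (CommRingCat.of R)) [QuasiCompact f] [QuasiSeparated f]
    (f' : X' ⟶ Spec (CommRingCat.of L)) (g' : X' ⟶ X),
    IsPullback g' f' f (Spec.map (CommRingCat.ofHom φ)) → ∀ (F : EtCoh.Ab X),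
    EtPBC.IsTorsionInvertibleOn (Spec (CommRingCat.of R)) F → ∀ (q : ℕ),
    Nonempty ((EtCoh.pull (Spec.map (CommRingCat.ofHom φ))).obj ((EtCoh.Rpush f q).obj F) ≅
        (EtCoh.Rpush f' q).obj ((EtCoh.pull g').obj F))

/-- Inverse images of constant sheaves. -/
noncomputable def pullConst {X Y : Scheme.{u}} (f : X ⟶ Y) (M : Type) [AddCommGroup M] :
    (EtCoh.pull f).obj (EtCoh.const Y M) ≅ EtCoh.const X M :=
  (Etrest.ConstBasic.constPull f).app _

theorem killedBy_const (X : Scheme.{u}) (M : Type) [AddCommGroup M] (n : ℕ) (hM : ∀ m : M, n • m = 0) :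
    EtCoh.KilledBy n (EtCoh.const X M) := by
  rw [Sga5.EtKilled.killedBy_iff]
  have h1 : (n • 𝟙 (AddCommGrpCat.of (ULift.{u + 1} M)) : AddCommGrpCat.of (ULift.{u + 1} M) ⟶ _) = 0 := by
    ext m
    exact hM m.down
  have h2 : (n • 𝟙 (EtCoh.const X M)) =
      (constantSheaf X.smallEtaleTopology AddCommGrpCat.{u + 1}).map
        (n • 𝟙 (AddCommGrpCat.of (ULift.{u + 1} M))) := by
    rw [Functor.map_nsmul, CategoryTheory.Functor.map_id]
  rw [h2, h1, Functor.map_zero]

theorem isUnit_natCast_Γ (R : Type u) [CommRing R] (k : Type u) [Field k] [CharZero k] (hk : k →+* R) (n : ℕ)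
    (hn : 0 < n) : IsUnit (n : Γ(Spec (CommRingCat.of R), ⊤)) := by
  have h1 : IsUnit (n : k) := (Nat.cast_ne_zero.2 hn.ne').isUnit
  have h2 := (h1.map hk).map (Scheme.ΓSpecIso (CommRingCat.of R)).inv.hom
  rwa [map_natCast, map_natCast] at h2

/-- Base change of `R^q j_*` of a constant sheaf along a regular homomorphism. -/
theorem RegBC.const (hbc : RegBC.{u}) {R L : Type u} [CommRing R] [CommRing L] [IsNoetherianRing R]
    [IsNoetherianRing L] (φ : R →+* L) (h : @CAlg.IsRegularHom R _ L _ φ.toAlgebra)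
    (k : Type u) [Field k] [CharZero k] (hk : k →+* R)
    {X X' : Scheme.{u}} (j : X ⟶ Spec (CommRingCat.of R)) [IsOpenImmersion j]
    (j' : X' ⟶ Spec (CommRingCat.of L)) [IsOpenImmersion j']
    (hr : Set.range j' = (Spec.map (CommRingCat.ofHom φ)) ⁻¹' Set.range j)
    (M : Type) [AddCommGroup M] (n : ℕ) (hn : 0 < n) (hM : ∀ m : M, n • m = 0) (q : ℕ) :
    Nonempty ((EtCoh.pull (Spec.map (CommRingCat.ofHom φ))).obj ((EtCoh.Rpush j q).obj (EtCoh.const X M)) ≅
        (EtCoh.Rpush j' q).obj (EtCoh.const X' M)) := by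
  have hr2 : Set.range (pullback.snd j (Spec.map (CommRingCat.ofHom φ))) =
      (Spec.map (CommRingCat.ofHom φ)) ⁻¹' Set.range j := IsOpenImmersion.range_pullbackSnd j _
  have h1 : Set.range j' = Set.range (pullback.snd j (Spec.map (CommRingCat.ofHom φ))) := hr.trans hr2.symm
  let e : X' ≅ pullback j (Spec.map (CommRingCat.ofHom φ)) :=
    IsOpenImmersion.isoOfRangeEq j' (pullback.snd j _) h1
  have he : e.hom ≫ pullback.snd j _ = j' := IsOpenImmersion.isoOfRangeEq_hom_fac _ _ _
  have sq : IsPullback (e.hom ≫ pullback.fst j _) j' j (Spec.map (CommRingCat.ofHom φ)) :=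
    IsPullback.of_iso (IsPullback.of_hasPullback j _) e.symm (Iso.refl _)
      (Iso.refl _) (Iso.refl _) (by simp) (by simp [← he]) (by simp) (by simp)
  have hN : IsLocallyNoetherian (Spec (CommRingCat.of R)) := inferInstance
  have hF : EtPBC.IsTorsionInvertibleOn (Spec (CommRingCat.of R)) (EtCoh.const X M) := fun U s x =>
    ⟨U, 𝟙 U, n, ⟨x, rfl⟩, isUnit_natCast_Γ R k hk n hn, by rw [killedBy_const X M n hM]⟩
  obtain ⟨a⟩ := hbc φ h j j' _ sq _ hF q
  exact ⟨a ≪≫ (EtCoh.Rpush j' q).mapIso (pullConst _ M)⟩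

section

variable {ι : Type} {R : Type u} [CommRing R] {z : ι → R} (k : Type u) [Field k] [CharZero k] (hk : k →+* R)

/-- The complement of the coordinate hyperplanes. -/
noncomputable def coord (c : ℕ) : (Spec (CommRingCat.of (MvPolynomial (Fin c) k))).Opens :=
  PrimeSpectrum.basicOpen (∏ a, MvPolynomial.X a)

omit [CharZero k] in
theorem mem_coord (c : ℕ) (p : Spec (CommRingCat.of (MvPolynomial (Fin c) k))) :
    p ∈ coord k c ↔ ∀ a, MvPolynomial.X a ∉ p.asIdeal := by
  change ∏ a, (MvPolynomial.X a : MvPolynomial (Fin c) k) ∉ p.asIdeal ↔ _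
  rw [Ideal.IsPrime.prod_mem_iff (hp := p.isPrime)]
  simp

include hk in
/-- Constructibility of the inverse image to the local scheme of a stratum. -/
theorem isConstructible_pull (hbc : RegBC.{u}) (h : SNC R z) (V : (Spec (CommRingCat.of R)).Opens)
    (hV : ∀ p : Spec (CommRingCat.of R), p ∈ V ↔ ∀ i, z i ∉ p.asIdeal) (J : Finset ι) {c : ℕ} (e : Fin c ≃ J)
    (M : Type) [AddCommGroup M] (n : ℕ) (hn : 0 < n) (hM : ∀ m : M, n • m = 0) (q : ℕ)
    (hc : EtPBC.IsConstructible ((EtCoh.Rpush (coord k c).ι q).obj (EtCoh.const _ M))) :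
    EtPBC.IsConstructible ((EtCoh.pull (Spec.map (CommRingCat.ofHom (algebraMap R (Bl z (J : Set ι)))))).obj
      ((EtCoh.Rpush V.ι q).obj (EtCoh.const (V : Scheme.{u}) M))) := by
  have hR := isRegularRing h
  have hN : IsNoetherianRing (Bl z (J : Set ι)) :=
    IsLocalization.isNoetherianRing (sub z (J : Set ι)) _ inferInstance
  let g := Spec.map (CommRingCat.ofHom (algebraMap R (Bl z (J : Set ι))))
  let V' : (Spec (CommRingCat.of (Bl z (J : Set ι)))).Opens := g ⁻¹ᵁ V
  have hV' : ∀ p : Spec (CommRingCat.of (Bl z (J : Set ι))), p ∈ V' ↔ ∀ i, algebraMap R _ (z i) ∉ p.asIdeal :=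
    fun p => hV (g p)
  have hr1 : Set.range V'.ι = g ⁻¹' Set.range V.ι := by
    rw [Scheme.Opens.range_ι, Scheme.Opens.range_ι]; rfl
  have hreg1 : @CAlg.IsRegularHom R _ (Bl z (J : Set ι)) _ (algebraMap R (Bl z (J : Set ι))).toAlgebra := by
    have h1 := CalgB.RegHom7.isRegularHom_of_isLocalization (Bl z (J : Set ι)) (sub z (J : Set ι))
    have h2 : (algebraMap R (Bl z (J : Set ι))).toAlgebra = (inferInstance : Algebra R (Bl z (J : Set ι))) := by
      ext r x
      exact (Algebra.smul_def r x).symm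
    rw [h2]
    exact h1
  obtain ⟨a1⟩ := hbc.const (algebraMap R (Bl z (J : Set ι))) hreg1 k hk V.ι V'.ι hr1 M n hn hM q
  have hreg2 := isRegularHom k hk h e
  have hr2 : Set.range V'.ι = (Spec.map (CommRingCat.ofHom
      ((algebraMap R (Bl z (J : Set ι))).comp (phi (z := z) k hk e)))) ⁻¹' Set.range (coord k c).ι := by
    rw [Scheme.Opens.range_ι, Scheme.Opens.range_ι]
    ext p
    rw [Set.mem_preimage, SetLike.mem_coe, SetLike.mem_coe, hV', mem_coord]
    have h3 : ∀ a, (MvPolynomial.X a : MvPolynomial (Fin c) k) ∉ (Spec.map (CommRingCat.ofHom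
      ((algebraMap R (Bl z (J : Set ι))).comp (phi (z := z) k hk e))) p).asIdeal ↔
      algebraMap R (Bl z (J : Set ι)) (z (e a)) ∉ p.asIdeal := by
      intro a
      rw [← phi_X (z := z) k hk e a]
      rfl
    simp only [h3]
    constructor
    · exact fun h a => h _
    · intro h i
      by_cases hi : i ∈ J
      · have := h (e.symm ⟨i, hi⟩)
        rwa [Equiv.apply_symm_apply] at this
      · intro hmem
        exact p.isPrime.ne_top (Ideal.eq_top_of_isUnit_mem _ hmem
          (isUnit_of_notMem z (J : Set ι) i (by simpa using hi)))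
  obtain ⟨a2⟩ := hbc.const ((algebraMap R (Bl z (J : Set ι))).comp (phi (z := z) k hk e)) hreg2 k
    (algebraMap k _) (coord k c).ι V'.ι hr2 M n hn hM q
  exact EtpbcA.StrataGlob.isConstructible_of_iso (a2 ≪≫ a1.symm) (S0127.result _ _ hc)

end

/-- The leaf case of the certificates. -/
theorem good_of_snc {ι : Type} [Finite ι] {R : Type u} [CommRing R] {z : ι → R} (k : Type u) [Field k]
    [CharZero k] (hk : k →+* R) (hbc : RegBC.{u})
    (hfin : ∀ (c q n : ℕ), 0 < n → ∀ (M : Type) [AddCommGroup M] [Finite M], (∀ m : M, n • m = 0) →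
      EtPBC.IsConstructible ((EtCoh.Rpush (coord k c).ι q).obj (EtCoh.const _ M)))
    (h : SNC R z) (V : (Spec (CommRingCat.of R)).Opens)
    (hV : ∀ p : Spec (CommRingCat.of R), p ∈ V ↔ ∀ i, z i ∉ p.asIdeal) (q : ℕ) :
    Good q (Spec (CommRingCat.of R)) V := by
  classical
  intro n hn M _ _ hM
  have := Fintype.ofFinite ι
  refine ⟨?_, 1, by rw [pow_one]; exact killedBy_rpush _ (killedBy_const _ M n hM) q⟩
  let g : ∀ J : Finset ι, Spec (CommRingCat.of (Bl z (J : Set ι))) ⟶ Spec (CommRingCat.of R) := fun J =>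
    Spec.map (CommRingCat.ofHom (algebraMap R (Bl z (J : Set ι))))
  have hs : Surjective (Sigma.desc g) := by
    refine ⟨fun p => ?_⟩
    obtain ⟨x, hx⟩ := exists_prime z (((Finset.univ.filter fun i => z i ∈ p.asIdeal) : Finset ι) : Set ι) p
      (by simp)
    refine ⟨Sigma.ι (fun J : Finset ι => Spec (CommRingCat.of (Bl z (J : Set ι)))) _ x, ?_⟩
    rw [← Scheme.Hom.comp_apply, Sigma.ι_desc]
    exact hx
  refine EtpbcA.ConsDescent.isConstructible_of_pull (Sigma.desc g) _ ?_
  refine EtpbcA.StrataGlob.isConstructible_of_openImmersions _ _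
    (Sigma.ι (fun J : Finset ι => Spec (CommRingCat.of (Bl z (J : Set ι))))) (fun x => ?_) fun J => ?_
  · exact ⟨_, (sigmaOpenCover (fun J : Finset ι => Spec (CommRingCat.of (Bl z (J : Set ι))))).covers x⟩
  · refine EtpbcA.StrataGlob.isConstructible_of_iso ((EtpbcA.PullFLC.pullComp _ _).app _ ≪≫
      (EtpbcA.PullFLC.pullCongr (Sigma.ι_desc g J)).app _).symm ?_
    exact isConstructible_pull k hk hbc h V hV J (Fintype.equivFinOfCardEq (Fintype.card_coe J)).symm M n hn hM q
      (hfin _ q n hn M hM)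

end K337.Leaf
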