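import Groth.Agent.EtDl.K556.RegMap
import Groth.Agent.EtDl.K556.ChartC
import Groth.Agent.EtDl.K556.CertDef

/-!
# The homomorphism to affine space defined by a strict normal crossings family

For `SNC R z`, `J` a subset of the indices and `B` the localization of `R` at the elements which become units on the
stratum `z_j = 0` (`j ∈ J`), `z_i ≠ 0` (`i ∉ J`), the homomorphism `k[X_j, j ∈ J] → B` is regular.
-/

set_option autoImplicit false
universe u

open IsLocalRing

namespace K337.SncAlg

open K556.CertDef

section dim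

variable {ι : Type*} (A : Type u) [CommRing A]

/-- Quotient by one more element. -/
theorem dim_succ (z : ι → A) (K : Set ι) (i : ι)
    (hinj : ∀ a : A, z i * a ∈ Ideal.span (z '' K) → a ∈ Ideal.span (z '' K)) :
    ringKrullDim (A ⧸ Ideal.span (z '' (insert i K))) + 1 ≤ ringKrullDim (A ⧸ Ideal.span (z '' K)) := by
  have hle : Ideal.span (z '' K) ≤ Ideal.span (z '' (insert i K)) :=
    Ideal.span_mono (Set.image_mono (Set.subset_insert _ _))
  refine ringKrullDim_succ_le_of_surjective (Ideal.Quotient.factor hle) (Ideal.Quotient.factor_surjective hle)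
    (r := Ideal.Quotient.mk _ (z i)) ?_ ?_
  · rw [mem_nonZeroDivisors_iff_right]
    intro y hy
    obtain ⟨y, rfl⟩ := Ideal.Quotient.mk_surjective y
    rw [← map_mul, Ideal.Quotient.eq_zero_iff_mem, mul_comm] at hy
    exact Ideal.Quotient.eq_zero_iff_mem.2 (hinj y hy)
  · rw [Ideal.Quotient.factor_mk]
    exact Ideal.Quotient.eq_zero_iff_mem.2 (Ideal.subset_span ⟨i, Set.mem_insert _ _, rfl⟩)

/-- The dimension of the quotient of a local ring by a regular family. -/
theorem dim_quot [IsLocalRing A] [IsNoetherianRing A] (z : ι → A) (J : Finset ι)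
    (hmem : ∀ i ∈ J, z i ∈ maximalIdeal A)
    (hinj : ∀ (K : Set ι) (i : ι), i ∉ K → ∀ a : A, z i * a ∈ Ideal.span (z '' K) →
      a ∈ Ideal.span (z '' K)) :
    ringKrullDim A = ringKrullDim (A ⧸ Ideal.span (z '' (J : Set ι))) + (J.card : ℕ) := by
  classical
  apply le_antisymm
  · have h1 := ringKrullDim_le_ringKrullDim_quotient_add_card (R := A) (J.image z) (by
      intro x hx
      rw [Finset.coe_image] at hx
      obtain ⟨i, hi, rfl⟩ := hx
      rw [SetLike.mem_coe, IsLocalRing.ringJacobson_eq_maximalIdeal]
      exact hmem i hi)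
    rw [Finset.coe_image] at h1
    refine h1.trans ?_
    gcongr
    exact Finset.card_image_le
  · clear hmem
    induction J using Finset.induction_on with
    | empty =>
      rw [Finset.coe_empty, Set.image_empty, Ideal.span_empty, Finset.card_empty, Nat.cast_zero, add_zero]
      exact (ringKrullDim_eq_of_ringEquiv (RingEquiv.quotientBot A)).le
    | insert i J hi ih =>
      rw [Finset.coe_insert, Finset.card_insert_of_notMem hi]
      refine le_trans ?_ ih
      have h1 := dim_succ A z (J : Set ι) i (hinj J i (by simpa using hi))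
      calc ringKrullDim (A ⧸ Ideal.span (z '' insert i (J : Set ι))) + ((J.card + 1 : ℕ) : WithBot ℕ∞)
          = ringKrullDim (A ⧸ Ideal.span (z '' insert i (J : Set ι))) + 1 + (J.card : ℕ) := by
            push_cast
            rw [add_assoc, add_comm (1 : WithBot ℕ∞)]
        _ ≤ _ := by gcongr

end dim

variable {ι : Type} {R : Type u} [CommRing R] {z : ι → R}

theorem isRegularRing (h : SNC R z) : IsRegularRing R := by
  have h1 := h.reg ∅
  rw [Set.image_empty, Ideal.span_empty] at h1
  exact IsRegularRing.of_ringEquiv (RingEquiv.quotientBot R)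

/-- The nonzerodivisor property localizes. -/
theorem inj_localization (h : SNC R z) (p : Ideal R) [p.IsPrime] (K : Set ι) (i : ι) (hi : i ∉ K)
    (a : Localization.AtPrime p)
    (ha : algebraMap R (Localization.AtPrime p) (z i) * a ∈
      Ideal.span ((fun i => algebraMap R (Localization.AtPrime p) (z i)) '' K)) :
    a ∈ Ideal.span ((fun i => algebraMap R (Localization.AtPrime p) (z i)) '' K) := by
  have hI : Ideal.span ((fun i => algebraMap R (Localization.AtPrime p) (z i)) '' K) =
      (Ideal.span (z '' K)).map (algebraMap R (Localization.AtPrime p)) := by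
    rw [Ideal.map_span, ← Set.image_comp]; rfl
  rw [hI] at ha ⊢
  obtain ⟨⟨b, t⟩, hb⟩ := IsLocalization.surj p.primeCompl a
  have hb' : a * algebraMap R (Localization.AtPrime p) t.1 = algebraMap R _ b := hb
  have h1 : algebraMap R (Localization.AtPrime p) (z i * b) ∈
      (Ideal.span (z '' K)).map (algebraMap R (Localization.AtPrime p)) := by
    rw [map_mul, ← hb', ← mul_assoc]
    exact Ideal.mul_mem_right _ _ ha
  rw [IsLocalization.algebraMap_mem_map_algebraMap_iff p.primeCompl] at h1
  obtain ⟨s, hs, h2⟩ := h1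
  have h3 : s * b ∈ Ideal.span (z '' K) := h.inj K i hi _ (by
    rw [← mul_assoc, mul_comm (z i), mul_assoc]; exact h2)
  have h4 : IsUnit (algebraMap R (Localization.AtPrime p) s) := IsLocalization.map_units _ (⟨s, hs⟩ : p.primeCompl)
  have h5 : IsUnit (algebraMap R (Localization.AtPrime p) t.1) := IsLocalization.map_units _ t
  rw [← Ideal.mul_unit_mem_iff_mem _ h5, hb', ← Ideal.unit_mul_mem_iff_mem _ h4, ← map_mul]
  exact Ideal.mem_map_of_mem _ h3

/-- Localizations of regular quotients. -/
theorem isRegularLocalRing_quotient (I : Ideal R) [IsRegularRing (R ⧸ I)] (p : Ideal R) [p.IsPrime] (hI : I ≤ p) :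
    IsRegularLocalRing (Localization.AtPrime p ⧸ I.map (algebraMap R (Localization.AtPrime p))) := by
  have hp : (p.map (Ideal.Quotient.mk I)).IsPrime :=
    Ideal.map_isPrime_of_surjective Ideal.Quotient.mk_surjective (by rwa [Ideal.mk_ker])
  have hpq : (p.map (Ideal.Quotient.mk I)).comap (Ideal.Quotient.mk I) = p := by
    rw [Ideal.comap_map_of_surjective' _ Ideal.Quotient.mk_surjective, Ideal.mk_ker, sup_eq_left.2 hI]
  obtain ⟨e⟩ := Groth.Agent.Sga4h.DivChart.nonempty_quotient_equiv R I (p.map (Ideal.Quotient.mk I))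
  have h1 := IsRegularLocalRing.of_ringEquiv e
  have key : ∀ (m' : Ideal R) (_ : m'.IsPrime), m' = p →
      IsRegularLocalRing (Localization.AtPrime m' ⧸ I.map (algebraMap R (Localization.AtPrime m'))) →
      IsRegularLocalRing (Localization.AtPrime p ⧸ I.map (algebraMap R (Localization.AtPrime p))) := by
    rintro m' hm' rfl h
    exact h
  exact key _ _ hpq h1

/-- The local structure at the primes containing a subfamily. -/
theorem regAt (h : SNC R z) (J : Finset ι) (p : Ideal R) [p.IsPrime] (hp : ∀ j ∈ J, z j ∈ p) {c : ℕ}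
    (e : Fin c ≃ J) :
    IsRegularLocalRing (Localization.AtPrime p) ∧ ∃ d : ℕ, ringKrullDim (Localization.AtPrime p) = (c + d : ℕ) ∧
      ∃ s : Fin d → Localization.AtPrime p,
        Ideal.span (Set.range (fun a => algebraMap R (Localization.AtPrime p) (z (e a))) ∪ Set.range s) =
          maximalIdeal (Localization.AtPrime p) := by
  have hR := isRegularRing h
  have hA : IsRegularLocalRing (Localization.AtPrime p) := inferInstance
  have hJ := h.reg (J : Set ι)
  have h1 := isRegularLocalRing_quotient (Ideal.span (z '' (J : Set ι))) p (by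
    rw [Ideal.span_le]; rintro _ ⟨j, hj, rfl⟩; exact hp j hj)
  have hr : z '' (J : Set ι) = Set.range fun a => z (e a) := by
    ext x
    constructor
    · rintro ⟨j, hj, rfl⟩
      exact ⟨e.symm ⟨j, hj⟩, by simp⟩
    · rintro ⟨a, rfl⟩
      exact ⟨e a, (e a).2, rfl⟩
  have hI : (Ideal.span (z '' (J : Set ι))).map (algebraMap R (Localization.AtPrime p)) =
      Ideal.span (Set.range (fun a => algebraMap R (Localization.AtPrime p) (z (e a)))) := by
    rw [hr, Ideal.map_span, ← Set.range_comp]; rfl
  have hI2 : Ideal.span ((fun i => algebraMap R (Localization.AtPrime p) (z i)) '' (J : Set ι)) =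
      Ideal.span (Set.range (fun a => algebraMap R (Localization.AtPrime p) (z (e a)))) := by
    rw [← hI, Ideal.map_span, ← Set.image_comp]; rfl
  rw [hI] at h1
  have hc : J.card = c := by simpa using (Fintype.card_congr e).symm
  have h2 := dim_quot (Localization.AtPrime p) (fun i => algebraMap R (Localization.AtPrime p) (z i)) J
    (fun i hi => (IsLocalization.AtPrime.to_map_mem_maximal_iff _ p _).2 (hp i hi))
    (fun K i hi a ha => inj_localization h p K i hi a ha)
  rw [hI2, hc] at h2
  exact ⟨hA, K556.ChartC.exists_params (Localization.AtPrime p) _ h2⟩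

section loc

variable (z) (J : Set ι)

/-- The elements which vanish nowhere on the stratum `z_j = 0` (`j ∈ J`), `z_i ≠ 0` (`i ∉ J`). -/
def sub : Submonoid R where
  carrier := {s | ∀ p : Ideal R, p.IsPrime → (∀ i, z i ∈ p ↔ i ∈ J) → s ∉ p}
  one_mem' p hp _ h := hp.ne_top ((Ideal.eq_top_iff_one _).2 h)
  mul_mem' ha hb p hp hz h := (hp.mem_or_mem h).elim (ha p hp hz) (hb p hp hz)

/-- The local ring of the stratum. -/
abbrev Bl : Type u := Localization (sub z J)

theorem mem_of_isMaximal (m : Ideal (Bl z J)) [hm : m.IsMaximal] (j : ι) (hj : j ∈ J) :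
    algebraMap R (Bl z J) (z j) ∈ m := by
  by_contra hcon
  obtain ⟨y, a, ha, h1⟩ := hm.exists_inv hcon
  obtain ⟨⟨b, t⟩, hb⟩ := IsLocalization.surj (sub z J) y
  have hb' : y * algebraMap R (Bl z J) t.1 = algebraMap R _ b := hb
  have h2 : a * algebraMap R (Bl z J) t.1 = algebraMap R _ (t.1 - b * z j) := by
    rw [map_sub, map_mul, ← hb']
    linear_combination (algebraMap R (Bl z J) t.1) * h1
  have h3 : t.1 - b * z j ∈ sub z J := by
    intro p hp hz hmem
    exact t.2 p hp hz (by
      have := p.add_mem hmem (p.mul_mem_left b ((hz j).2 hj))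
      rwa [sub_add_cancel] at this)
  have h4 : IsUnit (a * algebraMap R (Bl z J) t.1) := by
    rw [h2]
    exact IsLocalization.map_units _ (⟨_, h3⟩ : sub z J)
  exact hm.ne_top (Ideal.eq_top_of_isUnit_mem _ (m.mul_mem_right _ ha) h4)

theorem isUnit_of_notMem (i : ι) (hi : i ∉ J) : IsUnit (algebraMap R (Bl z J) (z i)) :=
  IsLocalization.map_units _ (⟨z i, fun _ _ hz h => hi ((hz i).1 h)⟩ : sub z J)

/-- The points of the stratum come from the localization. -/
theorem exists_prime (p : PrimeSpectrum R) (hp : ∀ i, z i ∈ p.asIdeal ↔ i ∈ J) :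
    p ∈ Set.range (PrimeSpectrum.comap (algebraMap R (Bl z J))) := by
  rw [PrimeSpectrum.localization_comap_range (Bl z J) (sub z J)]
  rw [Set.mem_setOf_eq, Set.disjoint_left]
  intro s hs hsp
  exact hs p.asIdeal p.isPrime hp hsp

end loc

variable (k : Type u) [Field k] [CharZero k] (hk : k →+* R)

/-- The homomorphism to `R`. -/
noncomputable def phi {J : Finset ι} {c : ℕ} (e : Fin c ≃ J) : MvPolynomial (Fin c) k →+* R :=
  MvPolynomial.eval₂Hom hk (fun a => z (e a))

omit [CharZero k] in
@[simp]
theorem phi_X {J : Finset ι} {c : ℕ} (e : Fin c ≃ J) (a : Fin c) :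
    phi (z := z) k hk e (MvPolynomial.X a) = z (e a) := by
  simp [phi]

/-- Regularity. -/
theorem isRegularHom (h : SNC R z) {J : Finset ι} {c : ℕ} (e : Fin c ≃ J) :
    @CAlg.IsRegularHom (MvPolynomial (Fin c) k) _ (Bl z (J : Set ι)) _
      ((algebraMap R (Bl z (J : Set ι))).comp (phi (z := z) k hk e)).toAlgebra := by
  have hR := isRegularRing h
  have hN : IsNoetherianRing (Bl z (J : Set ι)) :=
    IsLocalization.isNoetherianRing (sub z (J : Set ι)) _ inferInstance
  apply K556.RegMap.isRegularHom_of_equations
  · intro m _ a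
    rw [RingHom.comp_apply, phi_X]
    exact mem_of_isMaximal z (J : Set ι) m _ (e a).2
  · intro m hm
    let q : Ideal R := m.comap (algebraMap R (Bl z (J : Set ι)))
    have hq : ∀ j ∈ J, z j ∈ q := fun j hj => mem_of_isMaximal z (J : Set ι) m _ hj
    obtain ⟨h1, d, h2, s, h3⟩ := regAt h J q hq e
    let e' : Localization.AtPrime q ≃ₐ[R] Localization.AtPrime m :=
      IsLocalization.localizationLocalizationAtPrimeIsoLocalization (sub z (J : Set ι)) m
    have e1 : IsRegularLocalRing (Localization.AtPrime m) := IsRegularLocalRing.of_ringEquiv e'.toRingEquiv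
    refine ⟨e1, d, by rw [← h2]; exact (ringKrullDim_eq_of_ringEquiv e'.toRingEquiv).symm,
      fun i => e' (s i), ?_⟩
    have h4 : (maximalIdeal (Localization.AtPrime q)).map e'.toRingEquiv =
      maximalIdeal (Localization.AtPrime m) := by
      have := Ideal.map_isMaximal_of_equiv (p := maximalIdeal (Localization.AtPrime q)) e'.toRingEquiv
      exact IsLocalRing.eq_maximalIdeal this
    rw [← h4, ← h3, Ideal.map_span, Set.image_union, ← Set.range_comp, ← Set.range_comp]
    congr 3
    funext a
    have h5 : algebraMap (Bl z (J : Set ι)) (Localization.AtPrime m)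
        (((algebraMap R (Bl z (J : Set ι))).comp (phi (z := z) k hk e)) (MvPolynomial.X a)) =
        algebraMap R (Localization.AtPrime m) (z (e a)) := by
      rw [RingHom.comp_apply, phi_X]
      exact (IsScalarTower.algebraMap_apply _ _ _ _).symm
    exact h5.trans (e'.commutes _).symm

end K337.SncAlg
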